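import Cfsg.Agent.Lib.Subspaces.OrthDecompEven

/-!
Orthogonal decompositions in characteristic two, any number of blocks of dimension at least four.
-/

set_option autoImplicit false

namespace Cfsg.Agent.Lib.OmegaTwelve.DecompEven

open Matrix Cfsg.Agent.Lib.Subspaces.Transvection Cfsg.Agent.Lib.Subspaces.FormVec
  Cfsg.Agent.Lib.Subspaces.OrthForm Cfsg.Agent.Lib.Subspaces.OmegaGL
  Cfsg.Agent.Lib.Subspaces.OrthNondeg Cfsg.Agent.Lib.Subspaces.OrthNondegMax
  Cfsg.Agent.Lib.Subspaces.Decomposition Cfsg.Agent.Lib.Subspaces.OrthDecomp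
  Cfsg.Agent.Lib.Subspaces.OrthDecompOdd Cfsg.Agent.Lib.Subspaces.OrthDecompEven

variable {ι : Type} [Fintype ι] [DecidableEq ι] {F : Type*} [Field F] [Finite F]
  {Q : (ι → F) → F}

local notation "B" => QuadraticMap.polar Q

variable {t k : ℕ} {D : Fin t → Submodule F (ι → F)} {M : Subgroup (GL ι F)}

section

variable (h : Ctx Q M D k)

include h

/-- Sums of a norm one vector and a singular vector of two blocks, from one such pair. -/
theorem oneSing_all (h2 : (2 : F) = 0) (hq : Nat.card F = 2) (hk : 4 ≤ k) {l₀ m₀ : Fin t}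
    (hlm₀ : l₀ ≠ m₀) (h0 : OneSing h l₀ m₀) {l m : Fin t} (hlm : l ≠ m) : OneSing h l m := by
  have hQ := h.form
  have hb := hQ.polar_bilinear
  have hnd := h.decomp.decomp.nondegenerate
  have hone : ∀ i : Fin t, ∃ x ∈ D i, Q x = 1 ∧ x ≠ 0 := fun i => by
    obtain ⟨x, hx, hxQ⟩ := h.rep i 1 one_ne_zero
    exact ⟨x, hx, hxQ, fun e => by rw [e, Q_zero hQ] at hxQ; exact zero_ne_one hxQ⟩
  have hsing : ∀ i : Fin t, ∃ s ∈ D i, Q s = 0 ∧ s ≠ 0 := fun i => by
    obtain ⟨s, hs, hs0, hsQ⟩ := exists_singular_in hQ (S := D i)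
      (by rw [h.isMDec.finrank_eq]; omega)
    exact ⟨s, hs, hsQ, hs0⟩
  have step1 : ∀ {a b c : Fin t}, a ≠ b → c ≠ a → c ≠ b → OneSing h a b → OneSing h c a := by
    intro a b c hab hca hcb hP
    obtain ⟨g, hg, hga, hgb, -, -, -⟩ := h.exists_cycle hab hca hcb
    obtain ⟨x, hx, hxQ, -⟩ := hone a
    obtain ⟨s, hs, hsQ, hs0⟩ := hsing b
    have hgx : InL Q M D 1 ((g : Matrix ι ι F) *ᵥ x) := by
      have := h.inL_block (hga x hx) (by rw [h.iso hg, hxQ]; exact one_ne_zero)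
      rwa [h.iso hg, hxQ] at this
    have h1 := h.inL_map one_ne_zero hg (hxQ ▸ h.inL_block hx (hxQ ▸ one_ne_zero)) hgx
      (hP x hx s hs hxQ hsQ hs0)
    rw [mulVec_add] at h1
    exact oneSing_of h h2 hq hca (hga x hx) (hgb s hs) (by rw [h.iso hg, hxQ])
      (by rw [h.iso hg, hsQ])
      (fun e => hs0 (gl_mulVec_injective g (by simpa using e))) h1
  have step2 : ∀ {a b c : Fin t}, a ≠ b → c ≠ a → c ≠ b → OneSing h a b → OneSing h b c := by
    intro a b c hab hca hcb hP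
    obtain ⟨g, hg, hgb, hga, -, -, -⟩ := h.exists_cycle (l := b) (m := a) (j := c) (Ne.symm hab) hcb
      hca
    obtain ⟨x, hx, hxQ, -⟩ := hone a
    obtain ⟨s, hs, hsQ, hs0⟩ := hsing b
    have hgx : InL Q M D 1 ((g : Matrix ι ι F) *ᵥ x) := by
      have := h.inL_block (hga x hx) (by rw [h.iso hg, hxQ]; exact one_ne_zero)
      rwa [h.iso hg, hxQ] at this
    have h1 := h.inL_map one_ne_zero hg (hxQ ▸ h.inL_block hx (hxQ ▸ one_ne_zero)) hgx
      (hP x hx s hs hxQ hsQ hs0)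
    rw [mulVec_add] at h1
    exact oneSing_of h h2 hq (Ne.symm hcb) (hga x hx) (hgb s hs) (by rw [h.iso hg, hxQ])
      (by rw [h.iso hg, hsQ])
      (fun e => hs0 (gl_mulVec_injective g (by simpa using e))) h1
  have hswap : ∀ {a b : Fin t}, a ≠ b → OneSing h a b → OneSing h b a := by
    intro a b hab hP
    obtain ⟨x, hx, hxQ, hx0⟩ := hone a
    obtain ⟨s, hs, hsQ, hs0⟩ := hsing b
    obtain ⟨y, hy, hyQ, hyB⟩ := h.aff a x hx hx0 1 1 one_ne_zero (Or.inl one_ne_zero)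
    obtain ⟨hC, hCd⟩ := split_pair hQ h2 (hnd a) hx hy (by rw [hyB]; exact one_ne_zero)
    rw [h.isMDec.finrank_eq a] at hCd
    obtain ⟨c, ⟨hc, hcp⟩, hcQ⟩ := exists_anisotropic_on hQ hC
      (fun e => by rw [e, finrank_bot] at hCd; omega)
    obtain ⟨hcx, hcy⟩ := mem_perp_pair (hQ := hQ) hcp
    have hcQ1 : Q c = 1 := eq_one_of_ne_zero hq hcQ
    obtain ⟨f, hf, hfQ, hfB⟩ := h.aff b s hs hs0 1 1 one_ne_zero (Or.inl one_ne_zero)
    have hfsQ : Q (f + s) = 0 := by
      rw [Q_add (Q := Q), hfQ, hsQ, B_comm f s, hfB]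
      linear_combination h2
    have hfs0 : f + s ≠ 0 := fun e => by
      have := congrArg (fun v => B s v) e
      simp only [hb.add_right, hfB, B_self_zero hQ h2, zero_right hQ, add_zero] at this
      exact one_ne_zero this
    have hu := hP x hx s hs hxQ hsQ hs0
    have hv := hP c hc (f + s) ((D b).add_mem hf hs) hcQ1 hfsQ hfs0
    have h1 := h.rf_inL hu one_ne_zero hv one_ne_zero
    have hBvu : B (c + (f + s)) (x + s) = 1 := by
      rw [hb.add_left, hb.add_right, hb.add_right, hcx, h.orthog hab hc hs,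
        h.orthog (Ne.symm hab) ((D b).add_mem hf hs) hx, hb.add_left, B_comm f s, hfB,
        B_self_zero hQ h2]
      ring
    have e1 : rf Q (x + s) (c + (f + s)) = f + (x + c) := by
      rw [rf, hu.1, hBvu, inv_one, one_mul, one_smul]
      linear_combination (norm := module) (congrArg (fun r : F => r • x) h2).symm
    rw [e1] at h1
    have hxc0 : x + c ≠ 0 := fun e => by
      have := congrArg (fun v => B v y) e
      simp only [hb.add_left, hyB, hcy, form_zero_left (bil hQ), add_zero] at this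
      exact one_ne_zero this
    have hxcQ : Q (x + c) = 0 := by
      rw [Q_add (Q := Q), hxQ, hcQ1, B_comm x c, hcx]
      linear_combination h2
    exact oneSing_of h h2 hq (Ne.symm hab) hf ((D a).add_mem hx hc) hfQ hxcQ hxc0 h1
  have second : ∀ {a b c : Fin t}, a ≠ b → c ≠ a → OneSing h a b → OneSing h a c := by
    intro a b c hab hca hP
    by_cases hcb : c = b
    · exact hcb ▸ hP
    · exact hswap hca (step1 hab hca hcb hP)
  have first : ∀ {a b c : Fin t}, a ≠ b → c ≠ b → OneSing h a b → OneSing h c b :=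
    fun hab hcb hP => hswap (Ne.symm hcb) (second (Ne.symm hab) hcb (hswap hab hP))
  by_cases hl : l = m₀
  · subst hl
    exact second (Ne.symm hlm₀) (Ne.symm hlm) (hswap hlm₀ h0)
  · exact second hl (Ne.symm hlm) (first hlm₀ hl h0)

end

theorem omega_le_of_decomp (h : Ctx Q M D k) (h2 : (2 : F) = 0) (hk : 4 ≤ k)
    (hex : Nat.card F = 2 → k = 4 → ∀ i, ¬ Cfsg.Geo.IsPlusTypeOn Q (D i))
    {g : GL ι F} (hgM : g ∈ M)
    (hg : g ∉ Cfsg.Geo.decompositionStabilizer D) : Cfsg.Geo.omegaGL Q ≤ M := by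
  obtain ⟨c, hc, a, ha, l, m, hlm, hal, ham⟩ := exists_mixed h h2 hk hgM hg
  by_cases hq : Nat.card F = 2
  swap
  · exact h.omega_le_of_mixed hq hc ha hlm hal ham
  have hc1 := eq_one_of_ne_zero hq hc
  subst hc1
  obtain ⟨p, hp⟩ := exists_comp_aniso h.form h.decomp.decomp (a := a)
    (by rw [ha.1]; exact one_ne_zero)
  obtain ⟨r, hrp, hr⟩ : ∃ r, r ≠ p ∧ comp h.isMDec r a ≠ 0 := by
    by_cases hlp : l = p
    · exact ⟨m, fun e => hlm (hlp.trans e.symm), ham⟩
    · exact ⟨l, hlp, hal⟩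
  have h1 := oneSing_of_mixed h h2 hq hk (hex hq) ha hrp hr
    (fun e => hp (by rw [e, Q_zero h.form])) (Or.inr hp)
  exact h.omega_le_of_inL fun x hx => inL_all_two h h2 hq hk
    (oneSing_all h h2 hq hk hrp h1) Finset.univ x
    (fun i hi => absurd (Finset.mem_univ i) hi) hx

theorem maximal (hQ : Cfsg.Geo.IsNondegenerateQuadraticForm Q) (h2 : (2 : F) = 0)
    (hn : 5 ≤ Fintype.card ι) (hD : Cfsg.Geo.IsOrthogonalMDecomposition Q k D) (hk : 4 ≤ k)
    (hex : Nat.card F = 2 → k = 4 → ∀ i, ¬ Cfsg.Geo.IsPlusTypeOn Q (D i)) :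
    Cfsg.Geo.IsMaximalIn (Cfsg.Geo.omegaGL Q)
      (Cfsg.Geo.decompositionStabilizer D ⊓ Cfsg.Geo.omegaGL Q) := by
  have hcard := card_eq hD.decomp.decomp
  refine isMaximalIn_of inf_le_right ?_ fun M hHM hMK g hgM hgH => ?_
  · obtain ⟨g, hg, hgs⟩ := exists_not_stab hQ (by omega) hD (by omega) (Or.inr (by omega))
    exact ⟨g, hg, fun hmem => hgs hmem.1⟩
  · exact omega_le_of_decomp (ctx_of hQ h2 hn hD hk hex hHM hMK) h2 hk hex hgM
      fun e => hgH ⟨e, hMK hgM⟩


end Cfsg.Agent.Lib.OmegaTwelve.DecompEven
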