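import Cfsg.Agent.Lib.OmegaTen.Rows
import Cfsg.Agent.Lib.OmegaTwelve.DecompEven
import Cfsg.Agent.Lib.OmegaTwelve.TSHalves
import Cfsg.Agent.Lib.OmegaTwelve.TensorSymp

/-! Rows of the table of geometric maximal subgroups of the twelve-dimensional orthogonal groups. -/

set_option autoImplicit false
set_option linter.style.haveILetI false

namespace Cfsg.Agent.Lib.OmegaTwelve.Rows

open Module Matrix Cfsg.Agent.Lib.Subspaces.Transvection Cfsg.Agent.Lib.Subspaces.OrthForm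
  Cfsg.Agent.Lib.Subspaces.OmegaGL Cfsg.Agent.Lib.OmegaTen.OrthNondeg
  Cfsg.Agent.Lib.OmegaTen.OrthNondegMax Cfsg.Agent.Lib.K41.ExtForm Cfsg.Agent.Lib.ExtFieldMax

variable {F : Type*} [Field F] [Fintype F] {Q : (Fin 12 → F) → F}

/-- Totally singular subspaces. -/
theorem ts_maximal (hQ : Cfsg.Geo.IsNondegenerateQuadraticForm Q)
    (W : Submodule F (Fin 12 → F)) (hW0 : W ≠ ⊥) (hW : Cfsg.Geo.IsTotallySingularQuad Q W)
    (h4 : Module.finrank F W = 5 → ¬ Cfsg.Geo.IsPlusTypeOn Q ⊤) :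
    Cfsg.Geo.IsMaximalIn (Cfsg.Geo.omegaGL Q) (Cfsg.Geo.subspaceStabilizer W ⊓ Cfsg.Geo.omegaGL Q) := by
  have hc : 9 < Fintype.card (Fin 12) := by simp
  refine isMaximalIn_of inf_le_right ?_ fun M hHM hMK g hgM hgH => ?_
  · obtain ⟨g, hg, hg'⟩ := Cfsg.Agent.Lib.OmegaTen.OrthSingular.exists_omega_not_stab hQ hc hW0 hW
    exact ⟨g, hg, fun h => hg' h.1⟩
  refine Cfsg.Agent.Lib.OmegaTen.OrthSingular.omega_le_of_ts hQ hc hW0 hW ?_ hMK (fun h h1 h2 => hHM ⟨h1, h2⟩) hgM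
    fun h => hgH ⟨h, hMK hgM⟩
  rw [Fintype.card_fin]
  by_cases h : 3 + 2 * Module.finrank F W ≤ 12
  · exact Or.inl h
  refine Or.inr fun r hr hrp => ?_
  by_contra hrW
  obtain ⟨U, hU, hUd, hle⟩ := Cfsg.Agent.Lib.Subspaces.OrthSingular.ext_bound hQ hW hr hrp hrW
  rw [Fintype.card_fin] at hle
  refine h4 (by omega) ⟨U, le_top, hU, ?_⟩
  rw [hUd, finrank_top, Module.finrank_fin_fun]
  omega

/-- Non-degenerate subspaces. -/
theorem nondeg_maximal (hQ : Cfsg.Geo.IsNondegenerateQuadraticForm Q)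
    (W : Submodule F (Fin 12 → F)) (hW0 : W ≠ ⊥) (hW1 : W ≠ ⊤)
    (hW : Cfsg.Geo.IsNondegenerateOn (QuadraticMap.polar Q) W)
    (h6 : Module.finrank F W = 6 → ¬ Cfsg.Geo.IsPlusTypeOn Q ⊤)
    (h2p : Module.finrank F W = 2 → Cfsg.Geo.IsPlusTypeOn Q W → 4 ≤ Fintype.card F)
    (h10 : Module.finrank F W ≠ 10) :
    Cfsg.Geo.IsMaximalIn (Cfsg.Geo.omegaGL Q) (Cfsg.Geo.subspaceStabilizer W ⊓ Cfsg.Geo.omegaGL Q) := by
  have hc : Fintype.card (Fin 12) = 12 := Fintype.card_fin 12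
  refine maximal_nondeg hQ (by omega) hW0 hW1 hW (fun _ h => absurd h (by omega)) ?_ ?_
    fun h hiso => h6 (by omega) (plus_of_isometric hQ hW h
      (by rw [show Module.finrank F W = 6 by omega]; decide) hiso)
  · rintro ⟨hq, hd, e, he, he0, heQ⟩
    rw [Nat.card_eq_fintype_card] at hq
    have := h2p hd (plus_of_singular hQ hd he he0 heQ)
    omega
  · rintro ⟨-, hd, -⟩
    have := finrank_add_perpQ (hQ := hQ) hW
    omega

theorem top_bot_ne {W : Submodule F (Fin 12 → F)} {d : ℕ} (hd : Module.finrank F W = d)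
    (h0 : 0 < d) (h12 : d < 12) : W ≠ ⊥ ∧ W ≠ ⊤ := by
  refine ⟨fun h => ?_, fun h => ?_⟩
  · rw [h, finrank_bot] at hd; omega
  · rw [h, finrank_top, Module.finrank_fin_fun] at hd; omega

/-- Orthogonal decompositions into blocks of dimension four or six. -/
theorem decomp_maximal (hQ : Cfsg.Geo.IsNondegenerateQuadraticForm Q) {t k : ℕ}
    {D : Fin t → Submodule F (Fin 12 → F)} (hD : Cfsg.Geo.IsOrthogonalMDecomposition Q k D)
    (hk : k = 4 ∨ k = 6)
    (hex : k = 4 → Fintype.card F = 2 → ∀ i, ¬ Cfsg.Geo.IsPlusTypeOn Q (D i)) :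
    Cfsg.Geo.IsMaximalIn (Cfsg.Geo.omegaGL Q)
      (Cfsg.Geo.decompositionStabilizer D ⊓ Cfsg.Geo.omegaGL Q) := by
  have hc : Fintype.card (Fin 12) = 12 := Fintype.card_fin 12
  by_cases h2 : (2 : F) = 0
  · exact DecompEven.maximal hQ h2 (by omega) hD (by omega) fun hq hk4 =>
      hex hk4 (by rwa [Nat.card_eq_fintype_card] at hq)
  rcases hk with rfl | rfl
  · have hcard := Cfsg.Agent.Lib.Subspaces.Decomposition.card_eq hD.decomp.decomp
    exact Cfsg.Agent.Lib.Subspaces.OrthDecompOdd.maximal_of_three_le hQ h2 (by omega) hD (by omega)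
      (fun h => absurd h.2 (by omega)) (by omega)
  · exact Cfsg.Agent.Lib.OmegaTen.HalfMax.maximal hQ h2 (by omega) hD (by omega)

/-- Orthogonal decompositions into four blocks of dimension three. -/
theorem three_maximal (hQ : Cfsg.Geo.IsNondegenerateQuadraticForm Q) (hodd : Odd (Fintype.card F))
    (hq : 5 ≤ Fintype.card F) {D : Fin 4 → Submodule F (Fin 12 → F)}
    (hD : Cfsg.Geo.IsOrthogonalMDecomposition Q 3 D) :
    Cfsg.Geo.IsMaximalIn (Cfsg.Geo.omegaGL Q)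
      (Cfsg.Geo.decompositionStabilizer D ⊓ Cfsg.Geo.omegaGL Q) :=
  Cfsg.Agent.Lib.Subspaces.OrthDecompOdd.maximal_of_three_le hQ (Cfsg.Agent.Lib.OmegaTen.Rows.two_ne hodd)
    (by rw [Fintype.card_fin]; omega) hD le_rfl
    (fun h => by rw [Nat.card_eq_fintype_card] at h; omega) (by omega)

/-- The unitary overfield. -/
theorem unitary_maximal (hQ : Cfsg.Geo.IsNondegenerateQuadraticForm Q)
    (K : Subalgebra F (Matrix (Fin 12) (Fin 12) F)) (hK : Cfsg.Geo.IsFieldSubalgebra 2 K)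
    (hac : Cfsg.Geo.IsAdjointClosedFor (QuadraticMap.polar Q) K)
    (hnsa : ¬ Cfsg.Geo.IsSelfAdjointFor (QuadraticMap.polar Q) K)
    (hsc : ∀ k ∈ K, ∃ c : F, ∀ v : (Fin 12 → F), Q (Matrix.mulVec k v) = c * Q v) :
    Cfsg.Geo.IsMaximalIn (Cfsg.Geo.omegaGL Q)
      (Cfsg.Geo.subalgebraNormalizer K ⊓ Cfsg.Geo.omegaGL Q) := by
  classical
  haveI : Nonempty (Fin 12) := ⟨0⟩
  letI : Field K := fieldOfSub hK
  letI hmod : Module K (Fin 12 → F) := subModule K
  haveI : @IsScalarTower F K (Fin 12 → F) Algebra.toSMul hmod.toSMul inferInstance :=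
    ⟨fun a k x => smul_mulVec a (k : Matrix (Fin 12) (Fin 12) F) x⟩
  haveI : Finite K := Finite.of_injective (fun x : K => (x : Matrix (Fin 12) (Fin 12) F)) Subtype.val_injective
  have hn5 : 5 ≤ Fintype.card (Fin 12) := by rw [Fintype.card_fin]; omega
  have hb := hQ.polar_bilinear
  let D : Cfsg.Agent.Lib.OmegaTen.OrthHerm2.Data F K (Fin 12 → F) :=
    { Q := Q
      f := LinearMap.mk₂ F (QuadraticMap.polar Q) hb.add_left (fun c x v => hb.smul_left c x v)
        hb.add_right (fun c v x => hb.smul_right c v x)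
      polar := fun x y => rfl
      smul := fun a x => hQ.smul a x
      nondeg := fun x h => by
        by_contra hx
        obtain ⟨-, y, hy⟩ := hQ.nondegenerate x hx
        exact hy (h y)
      adjoint := fun c => by
        obtain ⟨d, hd, h⟩ := hac _ c.2
        exact ⟨⟨d, hd⟩, h⟩
      not_selfAdjoint := fun h => hnsa fun k hk u v => h ⟨k, hk⟩ u v
      scale := fun c => hsc _ c.2
      degree := hK.finrank_eq
      dim := by
        rw [Module.finrank_fintype_fun_eq_card, Fintype.card_fin]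
        omega }
  have hex : ∀ M : Subgroup (GL (Fin 12) F), Cfsg.Geo.subalgebraNormalizer K ⊓ Cfsg.Geo.omegaGL Q ≤ M →
      M ≤ Cfsg.Geo.omegaGL Q → ∃ S : Cfsg.Agent.Lib.OmegaTen.OrthHerm2.Setting F K (Fin 12 → F),
        S.M = M.map (glEquiv (F := F) (ι := Fin 12)).toMonoidHom ∧ S.Q = Q ∧
          ∀ x y, S.B x y = QuadraticMap.polar Q x y := by
    intro M hHM hMS
    refine D.exists_setting _ ?_ ?_ ?_
    · intro g hg x
      obtain ⟨A, hA, rfl⟩ := Subgroup.mem_map.1 hg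
      exact omega_isometry hQ (hMS hA) x
    · intro e w g he hwe hgz hlin
      obtain ⟨A, rfl⟩ := (glEquiv (F := F) (ι := Fin 12)).surjective g
      have hA : A = sieg Q e w := gl_ext fun x => by
        rw [sieg_mulVec hQ he hwe]
        exact hgz x
      refine Subgroup.mem_map.2 ⟨A, hHM ⟨?_, hA ▸ sieg_mem_omega hQ hn5 he hwe⟩, rfl⟩
      exact mem_normalizer_of_semi K A fun c hc => ⟨c, hc, fun x => hlin ⟨c, hc⟩ x⟩
    · intro e w he hwe
      exact ⟨glEquiv (sieg Q e w), fun z => sieg_mulVec hQ he hwe z⟩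
  refine isMaximalIn_of inf_le_right ?_ ?_
  · obtain ⟨S, -, hSQ, hSB⟩ := hex _ le_rfl inf_le_right
    obtain ⟨e, y, he, hye, hns⟩ := S.exists_nonsemi
    rw [hSB] at hye
    rw [hSQ] at he
    refine ⟨sieg Q e y, sieg_mem_omega hQ hn5 he hye, fun h => hns (glEquiv (sieg Q e y)) (fun z => ?_) fun c => ?_⟩
    · rw [glEquiv_apply, sieg_mulVec hQ he hye]
      unfold Cfsg.Agent.Lib.OmegaTen.OrthHerm2.sfun
      rw [hSB, hSB, hSQ]
    · obtain ⟨d, hdK, hd⟩ := semi_of_mem_normalizer h.1 c.2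
      exact ⟨⟨d, hdK⟩, hd⟩
  · intro M hHM hMS g hg hgn
    obtain ⟨S, hSM, hSQ, hSB⟩ := hex M hHM hMS
    have hnot : ∃ k ∈ S.M, ¬ IsSemi F K k := by
      refine ⟨glEquiv g, hSM ▸ Subgroup.mem_map.2 ⟨g, hg, rfl⟩, fun hk => hgn ⟨?_, hMS hg⟩⟩
      refine mem_normalizer_of_semi K g fun c hc => ?_
      obtain ⟨d, hd⟩ := hk ⟨c, hc⟩
      exact ⟨d, d.2, hd⟩
    refine omega_le hQ hn5 fun u w hu hwu => ?_
    obtain ⟨k, hk, hkz⟩ := S.sfun_mem hnot u w (by rw [hSQ]; exact hu) (by rw [hSB]; exact hwu)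
    rw [hSM] at hk
    obtain ⟨A, hA, rfl⟩ := Subgroup.mem_map.1 hk
    have hAt : A = sieg Q u w := gl_ext fun x => by
      rw [sieg_mulVec hQ hu hwu]
      have h1 := hkz x
      unfold Cfsg.Agent.Lib.OmegaTen.OrthHerm2.sfun at h1
      rw [hSB, hSB, hSQ] at h1
      exact h1
    exact hAt ▸ hA

end Cfsg.Agent.Lib.OmegaTwelve.Rows
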